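import Groth.Prelude.Def_Flatn
import Mathlib.AlgebraicGeometry.Limits
import Mathlib.AlgebraicGeometry.Morphisms.Proper
import Mathlib.AlgebraicGeometry.PullbackCarrier

/-! Functors of relative morphisms. -/

set_option autoImplicit false
universe u

noncomputable section

open CategoryTheory CategoryTheory.Limits AlgebraicGeometry Opposite

namespace Groth.Agent.MS97

theorem exists_open_range_subset {V X U S : Scheme.{u}} (g : X ⟶ S) [IsProper g] (i : V ⟶ X)
    [IsClosedImmersion i] (j : U ⟶ X) [IsOpenImmersion j] :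
    ∃ S₀ : S.Opens, ∀ (S' : Scheme.{u}) (f : S' ⟶ S),
      Set.range f ⊆ (S₀ : Set S) ↔ Set.range (pullback.fst (i ≫ g) f ≫ i) ⊆ Set.range j := by
  let B : Set V := (i ⁻¹' Set.range j)ᶜ
  have hB : IsClosed ((i ≫ g) '' B) :=
    (i ≫ g).isClosedMap _ (j.isOpenEmbedding.isOpen_range.preimage i.continuous).isClosed_compl
  refine ⟨⟨_, hB.isOpen_compl⟩, fun S' f => ?_⟩
  constructor
  · intro h
    rintro _ ⟨p, rfl⟩
    rw [Scheme.Hom.comp_apply]
    by_contra hp
    refine h ⟨pullback.snd (i ≫ g) f p, rfl⟩ ⟨pullback.fst (i ≫ g) f p, hp, ?_⟩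
    rw [← Scheme.Hom.comp_apply, pullback.condition, Scheme.Hom.comp_apply]
  · rintro h _ ⟨s, rfl⟩ ⟨v, hv, hvs⟩
    obtain ⟨p, hp⟩ : v ∈ Set.range (pullback.fst (i ≫ g) f) := by
      rw [Scheme.Pullback.range_fst]; exact ⟨s, hvs.symm⟩
    refine hv ?_
    show i v ∈ Set.range j
    rw [← hp, ← Scheme.Hom.comp_apply]
    exact h ⟨p, rfl⟩

section sigma

variable {S Y : Scheme.{u}} {ι : Type u} (X : ι → Scheme.{u}) (g : ∀ i, X i ⟶ S) (gY : Y ⟶ S) (T : Over S)

/-- a piece of the base change of a coproduct -/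
def piece (i : ι) : pullback T.hom (g i) ⟶ pullback T.hom (Sigma.desc g) :=
  pullback.map T.hom (g i) T.hom (Sigma.desc g) (𝟙 T.left) (Sigma.ι X i) (𝟙 S)
    ((Category.comp_id _).trans (Category.id_comp _).symm)
    ((Category.comp_id _).trans (Sigma.ι_desc g i).symm)

theorem piece_fst (i : ι) : piece X g T i ≫ pullback.fst _ _ = pullback.fst _ _ :=
  (pullback.lift_fst _ _ _).trans (Category.comp_id _)

theorem piece_snd (i : ι) : piece X g T i ≫ pullback.snd _ _ = pullback.snd _ _ ≫ Sigma.ι X i :=
  pullback.lift_snd _ _ _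

instance openImm_piece (i : ι) : IsOpenImmersion (piece X g T i) := by
  unfold piece; infer_instance

/-- the cover of the base change of a coproduct -/
def pieceCover : (pullback T.hom (Sigma.desc g)).OpenCover :=
  Scheme.Cover.mkOfCovers ι (fun i => pullback T.hom (g i)) (piece X g T) (fun p => by
    obtain ⟨i, x, hx⟩ : ∃ i x, Sigma.ι X i x = pullback.snd T.hom (Sigma.desc g) p :=
      (sigmaOpenCover X).exists_eq _
    have hp : p ∈ Set.range (piece X g T i) := by
      unfold piece
      rw [Scheme.Pullback.range_map]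
      exact ⟨⟨_, rfl⟩, ⟨x, hx⟩⟩
    obtain ⟨y, hy⟩ := hp
    exact ⟨i, y, hy⟩) (fun i => openImm_piece X g T i)

theorem pieces_compat (b : ∀ i, pullback T.hom (g i) ⟶ Y) (i j : ι) :
    pullback.fst (piece X g T i) (piece X g T j) ≫ b i = pullback.snd _ _ ≫ b j := by
  by_cases h : i = j
  · subst h
    have : pullback.fst (piece X g T i) (piece X g T i) = pullback.snd _ _ := by
      rw [← cancel_mono (piece X g T i)]; exact pullback.condition
    rw [this]
  · haveI : IsEmpty ↑(pullback (piece X g T i) (piece X g T j)) :=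
      isEmpty_of_commSq_sigmaι_of_ne (a := pullback.fst _ _ ≫ pullback.snd T.hom (g i))
        (b := pullback.snd _ _ ≫ pullback.snd T.hom (g j)) ⟨by
          rw [Category.assoc, ← piece_snd, Category.assoc, ← piece_snd, pullback.condition_assoc]⟩ h
    exact isInitialOfIsEmpty.hom_ext _ _

theorem existsUnique_sigma (a : ∀ i, (Flatn.morS (g i) gY).obj (Opposite.op T)) :
    ∃! b : (Flatn.morS (Sigma.desc g) gY).obj (Opposite.op T),
      ∀ i, piece X g T i ≫ b.left = (a i).left := by
  let b₀ : pullback T.hom (Sigma.desc g) ⟶ Y :=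
    (pieceCover X g T).glueMorphisms (fun i => (a i).left) (pieces_compat X g T fun i => (a i).left)
  have hb : ∀ i, piece X g T i ≫ b₀ = (a i).left := fun i => (pieceCover X g T).ι_glueMorphisms _ _ i
  have hw : b₀ ≫ gY = pullback.snd T.hom (Sigma.desc g) ≫ Sigma.desc g :=
    Scheme.Cover.hom_ext (pieceCover X g T) _ _ fun i => by
      show piece X g T i ≫ b₀ ≫ gY = piece X g T i ≫ _
      rw [reassoc_of% hb i, reassoc_of% piece_snd X g T i, Sigma.ι_desc]
      exact Over.w (a i)
  refine ⟨Over.homMk b₀ hw, hb, fun b' hb' => Over.OverMorphism.ext ?_⟩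
  exact Scheme.Cover.hom_ext (pieceCover X g T) _ _ fun i => (hb' i).trans (hb i).symm

end sigma

section baseChange

variable {X Y S S' : Scheme.{u}} (gX : X ⟶ S) (gY : Y ⟶ S) (h : S' ⟶ S)

theorem bc_w1 {T : Scheme.{u}} (t : T ⟶ S') :
    pullback.fst t (pullback.snd gX h) ≫ t ≫ h =
      (pullback.snd t (pullback.snd gX h) ≫ pullback.fst gX h) ≫ gX := by
  rw [← Category.assoc, pullback.condition, Category.assoc, Category.assoc, pullback.condition]

theorem bc_w2 {T : Scheme.{u}} (t : T ⟶ S') :
    pullback.snd (t ≫ h) gX ≫ gX = (pullback.fst (t ≫ h) gX ≫ t) ≫ h := by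
  rw [Category.assoc]; exact pullback.condition.symm

theorem bc_w3 {T : Scheme.{u}} (t : T ⟶ S') :
    pullback.fst (t ≫ h) gX ≫ t =
      pullback.lift (pullback.snd (t ≫ h) gX) (pullback.fst (t ≫ h) gX ≫ t) (bc_w2 gX h t) ≫ pullback.snd gX h :=
  (pullback.lift_snd _ _ _).symm

/-- base change in two steps, on schemes -/
def bcIso' {T : Scheme.{u}} (t : T ⟶ S') : pullback t (pullback.snd gX h) ≅ pullback (t ≫ h) gX where
  hom := pullback.lift (pullback.fst t (pullback.snd gX h))
    (pullback.snd t (pullback.snd gX h) ≫ pullback.fst gX h) (bc_w1 gX h t)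
  inv := pullback.lift (pullback.fst (t ≫ h) gX)
    (pullback.lift (pullback.snd (t ≫ h) gX) (pullback.fst (t ≫ h) gX ≫ t) (bc_w2 gX h t))
    (bc_w3 gX h t)
  hom_inv_id := by
    apply pullback.hom_ext
    · rw [Category.assoc, pullback.lift_fst, pullback.lift_fst, Category.id_comp]
    · apply pullback.hom_ext
      · rw [Category.assoc, Category.assoc, Category.assoc, pullback.lift_snd_assoc, pullback.lift_fst,
          pullback.lift_snd, Category.id_comp]
      · rw [Category.assoc, Category.assoc, Category.assoc, pullback.lift_snd_assoc, pullback.lift_snd,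
          pullback.lift_fst_assoc, Category.id_comp, pullback.condition]
  inv_hom_id := by
    apply pullback.hom_ext
    · rw [Category.assoc, pullback.lift_fst, pullback.lift_fst, Category.id_comp]
    · rw [Category.assoc, pullback.lift_snd, pullback.lift_snd_assoc, pullback.lift_fst, Category.id_comp]

/-- base change in two steps -/
def bcIso (T : Over S') :
    (Over.map h).obj ((Over.map (pullback.snd gX h)).obj ((Over.pullback (pullback.snd gX h)).obj T)) ≅
      (Over.map gX).obj ((Over.pullback gX).obj ((Over.map h).obj T)) :=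
  Over.isoMk (bcIso' gX h T.hom) (by
    show (bcIso' gX h T.hom).hom ≫ pullback.snd (T.hom ≫ h) gX ≫ gX =
      (pullback.snd T.hom (pullback.snd gX h) ≫ pullback.snd gX h) ≫ h
    rw [bcIso', pullback.lift_snd_assoc, Category.assoc, Category.assoc, pullback.condition])

theorem bcIso_natural {T T' : Over S'} (f : T' ⟶ T) :
    (Over.map h).map ((Over.map (pullback.snd gX h)).map ((Over.pullback (pullback.snd gX h)).map f)) ≫
        (bcIso gX h T).hom =
      (bcIso gX h T').hom ≫ (Over.map gX).map ((Over.pullback gX).map ((Over.map h).map f)) := by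
  refine Over.OverMorphism.ext ?_
  show pullback.lift _ _ _ ≫ pullback.lift _ _ _ = pullback.lift _ _ _ ≫ pullback.lift _ _ _
  refine pullback.hom_ext ?_ ?_
  · erw [Category.assoc, pullback.lift_fst, pullback.lift_fst, Category.assoc, pullback.lift_fst, ← Category.assoc,
      pullback.lift_fst]
    rfl
  · erw [Category.assoc, pullback.lift_snd, ← Category.assoc, pullback.lift_snd, Category.assoc, pullback.lift_snd,
      pullback.lift_snd]

theorem representableBy_baseChange (M : Over S) (e : (Flatn.morS gX gY).RepresentableBy M) :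
    Nonempty ((Flatn.morS (pullback.snd gX h) (pullback.snd gY h)).RepresentableBy
      (Over.mk (pullback.snd M.hom h))) := by
  refine ⟨{
    homEquiv := fun {T} => ((Over.mapPullbackAdj h).homEquiv T M).symm.trans (e.homEquiv.trans
      (((bcIso gX h T).homCongr (Iso.refl (Over.mk gY))).symm.trans
        ((Over.mapPullbackAdj h).homEquiv _ (Over.mk gY))))
    homEquiv_comp := fun {T T'} f φ => ?_ }⟩
  change ((Over.mapPullbackAdj h).homEquiv _ (Over.mk gY)) ((bcIso gX h T).hom ≫
      e.homEquiv (((Over.mapPullbackAdj h).homEquiv T M).symm (f ≫ φ)) ≫ 𝟙 _) =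
    (Over.map (pullback.snd gX h)).map ((Over.pullback (pullback.snd gX h)).map f) ≫
      ((Over.mapPullbackAdj h).homEquiv _ (Over.mk gY)) ((bcIso gX h T').hom ≫
        e.homEquiv (((Over.mapPullbackAdj h).homEquiv T' M).symm φ) ≫ 𝟙 _)
  rw [Adjunction.homEquiv_naturality_left_symm, e.homEquiv_comp, ← Adjunction.homEquiv_naturality_left]
  congr 1
  simp only [Category.comp_id]
  rw [← Category.assoc, bcIso_natural, Category.assoc]
  rfl

end baseChange

end Groth.Agent.MS97
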