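import Groth.Agent.MS97.Hilb
import Mathlib.AlgebraicGeometry.PullbackCarrier

/-! The Hilbert functor of an open subscheme. -/

set_option autoImplicit false
universe u

noncomputable section

open CategoryTheory CategoryTheory.Limits AlgebraicGeometry TopologicalSpace

namespace Groth.Agent.MS97

/-- the image of a closed subscheme under a monomorphism pulls back to itself -/
theorem comap_ker_comp {P Q : Scheme.{u}} (J : P.IdealSheafData) (w : P ⟶ Q) [Mono w]
    [IsClosedImmersion (J.subschemeι ≫ w)] : (J.subschemeι ≫ w).ker.comap w = J := by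
  let c := J.subschemeι ≫ w
  haveI : IsClosedImmersion c := ‹_›
  let t := IsClosedImmersion.lift c.ker.subschemeι c (Scheme.IdealSheafData.ker_subschemeι _).le
  have ht : t ≫ c.ker.subschemeι = c := IsClosedImmersion.lift_fac _ _ _
  haveI : IsIso t := IsClosedImmersion.isIso_lift _ _ (Scheme.IdealSheafData.ker_subschemeι _)
  let e : pullback w c.ker.subschemeι ⟶ J.subscheme := pullback.snd _ _ ≫ inv t
  have he : e ≫ J.subschemeι = pullback.fst w c.ker.subschemeι := by
    rw [← cancel_mono w, pullback.condition]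
    show (pullback.snd _ _ ≫ inv t) ≫ J.subschemeι ≫ w = _
    rw [Category.assoc]
    refine congrArg _ ?_
    rw [IsIso.inv_comp_eq]
    exact ht.symm
  have : IsIso e := by
    refine ⟨pullback.lift J.subschemeι t ht.symm, ?_, ?_⟩
    · refine pullback.hom_ext ?_ ?_
      · rw [Category.assoc, pullback.lift_fst, he, Category.id_comp]
      · rw [Category.assoc, pullback.lift_snd, Category.id_comp]
        show (pullback.snd _ _ ≫ inv t) ≫ t = _
        rw [Category.assoc, IsIso.inv_hom_id, Category.comp_id]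
    · show pullback.lift _ _ _ ≫ pullback.snd _ _ ≫ inv t = _
      rw [pullback.lift_snd_assoc, IsIso.hom_inv_id]
  show (pullback.fst w c.ker.subschemeι).ker = J
  rw [← he, Scheme.Hom.ker_comp_of_isIso, Scheme.IdealSheafData.ker_subschemeι]

/-- a closed subscheme inside an open is the image of its trace -/
theorem ker_comap_comp {P Q : Scheme.{u}} (I : Q.IdealSheafData) (w : P ⟶ Q) [IsOpenImmersion w]
    (h : Set.range I.subschemeι ⊆ Set.range w) : ((I.comap w).subschemeι ≫ w).ker = I := by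
  have : AlgebraicGeometry.Surjective (pullback.snd w I.subschemeι) := ⟨fun z => by
    have : z ∈ Set.range (pullback.snd w I.subschemeι) := by
      rw [Scheme.Pullback.range_snd]; exact h ⟨z, rfl⟩
    exact this⟩
  haveI : Epi (pullback.snd w I.subschemeι).base := (TopCat.epi_iff_surjective _).2 (pullback.snd w I.subschemeι).surjective
  haveI : IsIso (pullback.snd w I.subschemeι) := IsOpenImmersion.isIso _
  rw [← Scheme.IdealSheafData.comapIso_hom_fst, Category.assoc, pullback.condition, ← Category.assoc,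
    Scheme.Hom.ker_comp_of_isIso, Scheme.IdealSheafData.ker_subschemeι]

variable {X U S : Scheme.{u}} (f : X ⟶ S) (j : U ⟶ X) [IsOpenImmersion j]

instance isOpenImmersion_wMap (T : Over S) : IsOpenImmersion (wMap f j T) :=
  MorphismProperty.pullbackMap (P := @IsOpenImmersion) (i₁ := j) (i₂ := 𝟙 T.left) ‹IsOpenImmersion j›
    (inferInstance : IsOpenImmersion (𝟙 T.left)) rfl (Category.id_comp _).symm

theorem range_wMap (T : Over S) : Set.range (wMap f j T) = pullback.fst f T.hom ⁻¹' Set.range j := by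
  unfold wMap
  rw [Scheme.Pullback.range_map]
  ext p
  exact ⟨fun h => h.1, fun h => ⟨h, ⟨_, rfl⟩⟩⟩

theorem mem_range_comap {P Q : Scheme.{u}} (I : Q.IdealSheafData) (g : P ⟶ Q) (p : P) :
    p ∈ Set.range (I.comap g).subschemeι ↔ g p ∈ Set.range I.subschemeι := by
  rw [← Scheme.IdealSheafData.comapIso_hom_fst, Scheme.Hom.comp_base, TopCat.coe_comp,
    Set.range_comp, Set.range_eq_univ.2 (I.comapIso g).hom.surjective, Set.image_univ, Scheme.Pullback.range_fst]
  rfl

variable [IsSeparated f]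

theorem representedBy_open (H : Over S) (Z : FGA.HilbSet f H) (hH : FGA.HilbRepresentedBy f H Z) :
    ∃ (H₀ : H.left.Opens) (Z₀ : FGA.HilbSet (j ≫ f) (Over.mk (H₀.ι ≫ H.hom))),
      Z₀.1 = Z.1.comap (pullback.map (j ≫ f) (H₀.ι ≫ H.hom) f H.hom j H₀.ι (𝟙 S)
        (Category.comp_id _) (Category.comp_id _)) ∧
      FGA.HilbRepresentedBy (j ≫ f) (Over.mk (H₀.ι ≫ H.hom)) Z₀ := by
  let pZ := Z.1.subschemeι ≫ pullback.snd f H.hom
  haveI : IsProper pZ := Z.2.1
  haveI : Flat pZ := Z.2.2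
  let B : Set Z.1.subscheme := ((Z.1.subschemeι ≫ pullback.fst f H.hom) ⁻¹' Set.range j)ᶜ
  have hB : IsClosed (pZ '' B) :=
    pZ.isClosedMap _ (j.isOpenEmbedding.isOpen_range.preimage (Scheme.Hom.continuous _)).isClosed_compl
  let H₀ : H.left.Opens := ⟨_, hB.isOpen_compl⟩
  let m : pullback (j ≫ f) (H₀.ι ≫ H.hom) ⟶ pullback f H.hom :=
    pullback.map (j ≫ f) (H₀.ι ≫ H.hom) f H.hom j H₀.ι (𝟙 S) (Category.comp_id _) (Category.comp_id _)
  have hm : Set.range m = pullback.fst f H.hom ⁻¹' Set.range j ∩ pullback.snd f H.hom ⁻¹' (H₀ : Set H.left) := by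
    simp only [m]
    rw [Scheme.Pullback.range_map, Scheme.Opens.range_ι]
  haveI hmo : IsOpenImmersion m := MorphismProperty.pullbackMap (P := @IsOpenImmersion) (i₁ := j) (i₂ := H₀.ι)
    ‹IsOpenImmersion j› (inferInstance : IsOpenImmersion H₀.ι) rfl rfl
  let q : pullback m Z.1.subschemeι ⟶ ↑H₀ := pullback.fst m Z.1.subschemeι ≫ pullback.snd _ _
  have hq : IsPullback (pullback.snd m Z.1.subschemeι) q pZ H₀.ι := by
    refine (IsOpenImmersion.isPullback q (pullback.snd m Z.1.subschemeι) H₀.ι pZ ?_ ?_).flip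
    · show pullback.snd m Z.1.subschemeι ≫ Z.1.subschemeι ≫ pullback.snd f H.hom =
        (pullback.fst m Z.1.subschemeι ≫ pullback.snd _ _) ≫ H₀.ι
      rw [← pullback.condition_assoc, Category.assoc]
      exact congrArg _ (pullback.lift_snd _ _ _)
    · ext z
      show pZ z ∈ Set.range H₀.ι ↔ z ∈ Set.range (pullback.snd m Z.1.subschemeι)
      rw [Scheme.Opens.range_ι, Scheme.Pullback.range_snd, Set.mem_preimage, hm]
      refine ⟨fun h => ⟨?_, h⟩, fun h => h.2⟩
      by_contra hz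
      exact h ⟨z, hz, rfl⟩
  have hfp : IsProper q ∧ Flat q :=
    ⟨MorphismProperty.of_isPullback hq ‹_›, MorphismProperty.of_isPullback hq ‹_›⟩
  let Z₀ : FGA.HilbSet (j ≫ f) (Over.mk (H₀.ι ≫ H.hom)) := ⟨Z.1.comap m, by
    have e : (Z.1.comap m).subschemeι ≫ pullback.snd (j ≫ f) (H₀.ι ≫ H.hom) = (Z.1.comapIso m).hom ≫ q := by
      rw [← Scheme.IdealSheafData.comapIso_hom_fst, Category.assoc]
    show IsProper ((Z.1.comap m).subschemeι ≫ pullback.snd (j ≫ f) (H₀.ι ≫ H.hom)) ∧
      Flat ((Z.1.comap m).subschemeι ≫ pullback.snd (j ≫ f) (H₀.ι ≫ H.hom))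
    rw [e]
    haveI := hfp.1
    haveI := hfp.2
    exact ⟨inferInstance, inferInstance⟩⟩
  refine ⟨H₀, Z₀, rfl, ?_, fun T _ Y => ?_⟩
  · haveI := hH.1
    exact isLocallyNoetherian_of_isOpenImmersion H₀.ι
  haveI := isClosedImmersion_image f j T Y
  let c := Y.1.subschemeι ≫ wMap f j T
  let t := IsClosedImmersion.lift c.ker.subschemeι c (Scheme.IdealSheafData.ker_subschemeι _).le
  have ht : t ≫ c.ker.subschemeι = c := IsClosedImmersion.lift_fac _ _ _
  haveI : IsIso t := IsClosedImmersion.isIso_lift _ _ (Scheme.IdealSheafData.ker_subschemeι _)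
  let Y' : FGA.HilbSet f T := ⟨c.ker, by
    have e : c.ker.subschemeι ≫ pullback.snd f T.hom = inv t ≫ Y.1.subschemeι ≫ pullback.snd (j ≫ f) T.hom := by
      rw [IsIso.eq_inv_comp, ← Category.assoc, ht]
      show (Y.1.subschemeι ≫ wMap f j T) ≫ _ = _
      rw [Category.assoc, wMap_snd]
    show IsProper (c.ker.subschemeι ≫ pullback.snd f T.hom) ∧ Flat (c.ker.subschemeι ≫ pullback.snd f T.hom)
    rw [e]
    haveI := Y.2.1
    haveI := Y.2.2
    exact ⟨inferInstance, inferInstance⟩⟩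
  obtain ⟨g, hg, hu⟩ := hH.2 T Y'
  rw [hilbPull_eq_comap] at hg
  have hgH : Set.range g.left ⊆ (H₀ : Set H.left) := by
    rintro _ ⟨s, rfl⟩ ⟨z, hz, hzs⟩
    obtain ⟨p, hp⟩ : Z.1.subschemeι z ∈ Set.range (PicF.XTmap f g) := by
      unfold PicF.XTmap
      rw [Scheme.Pullback.range_map]
      exact ⟨⟨_, rfl⟩, ⟨s, hzs.symm⟩⟩
    have hpY : p ∈ Set.range c.ker.subschemeι := by
      show p ∈ Set.range Y'.1.subschemeι
      rw [← hg, mem_range_comap, hp]; exact ⟨z, rfl⟩
    obtain ⟨y, rfl⟩ := hpY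
    obtain ⟨y', rfl⟩ := t.surjective y
    refine hz ?_
    show (Z.1.subschemeι ≫ pullback.fst f H.hom) z ∈ Set.range j
    have h1 : PicF.XTmap f g ≫ pullback.fst f H.hom = pullback.fst f T.hom :=
      (pullback.lift_fst _ _ _).trans (Category.comp_id _)
    rw [Scheme.Hom.comp_apply, ← hp, ← Scheme.Hom.comp_apply, h1, ← Scheme.Hom.comp_apply t, ht]
    have : wMap f j T (Y.1.subschemeι y') ∈ Set.range (wMap f j T) := ⟨_, rfl⟩
    rw [range_wMap] at this
    exact this
  let H' : Over S := Over.mk (H₀.ι ≫ H.hom)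
  let i₀ : H' ⟶ H := Over.homMk H₀.ι rfl
  let g₀ : T ⟶ H' := Over.homMk (IsOpenImmersion.lift H₀.ι g.left (by rwa [Scheme.Opens.range_ι]))
    (by show _ ≫ H₀.ι ≫ H.hom = _; rw [IsOpenImmersion.lift_fac_assoc]; exact Over.w g)
  have hg₀ : g₀ ≫ i₀ = g := Over.OverMorphism.ext (IsOpenImmersion.lift_fac _ _ _)
  have hsq : ∀ φ : T ⟶ H', PicF.XTmap (j ≫ f) φ ≫ m = wMap f j T ≫ PicF.XTmap f (φ ≫ i₀) := fun φ => by
    show pullback.lift _ _ _ ≫ pullback.lift _ _ _ = pullback.lift _ _ _ ≫ pullback.lift _ _ _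
    refine pullback.hom_ext ?_ ?_
    · erw [Category.assoc, pullback.lift_fst, ← Category.assoc, pullback.lift_fst]
      refine Eq.trans ?_ ((Category.assoc _ _ _).trans (congrArg _ (pullback.lift_fst _ _ _))).symm
      exact (congrArg (· ≫ j) (Category.comp_id _)).trans
        ((congrArg _ (Category.comp_id _)).trans (pullback.lift_fst _ _ _)).symm
    · erw [Category.assoc, pullback.lift_snd, ← Category.assoc, pullback.lift_snd]
      refine Eq.trans ?_ ((Category.assoc _ _ _).trans (congrArg _ (pullback.lift_snd _ _ _))).symm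
      refine Eq.trans ?_ (Category.assoc _ _ _)
      refine Eq.trans ?_ (congrArg (· ≫ (φ ≫ i₀).left) (pullback.lift_snd _ _ _)).symm
      exact (Category.assoc _ _ _).trans (congrArg (· ≫ (φ ≫ i₀).left) (Category.comp_id _)).symm
  refine ⟨g₀, ?_, fun φ hφ => ?_⟩
  · show FGA.hilbPull (j ≫ f) g₀ Z₀.1 = Y.1
    rw [hilbPull_eq_comap]
    show (Z.1.comap m).comap _ = _
    rw [← Scheme.IdealSheafData.comap_comp]
    erw [hsq g₀]
    rw [Scheme.IdealSheafData.comap_comp, hg₀, hg]
    exact comap_ker_comp Y.1 (wMap f j T)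
  · change FGA.hilbPull (j ≫ f) φ Z₀.1 = Y.1 at hφ
    rw [hilbPull_eq_comap] at hφ
    change (Z.1.comap m).comap _ = _ at hφ
    rw [← Scheme.IdealSheafData.comap_comp] at hφ
    erw [hsq φ] at hφ
    rw [Scheme.IdealSheafData.comap_comp] at hφ
    have hsup : Set.range (Z.1.comap (PicF.XTmap f (φ ≫ i₀))).subschemeι ⊆ Set.range (wMap f j T) := by
      intro p hp
      rw [mem_range_comap] at hp
      obtain ⟨z, hz⟩ := hp
      rw [range_wMap]
      show pullback.fst f T.hom p ∈ Set.range j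
      have h1 : PicF.XTmap f (φ ≫ i₀) ≫ pullback.fst f H.hom = pullback.fst f T.hom :=
        (pullback.lift_fst _ _ _).trans (Category.comp_id _)
      have h2 : PicF.XTmap f (φ ≫ i₀) ≫ pullback.snd f H.hom = pullback.snd f T.hom ≫ φ.left ≫ H₀.ι :=
        pullback.lift_snd _ _ _
      rw [← h1, Scheme.Hom.comp_apply, ← hz, ← Scheme.Hom.comp_apply]
      by_contra hzj
      refine (φ.left (pullback.snd f T.hom p)).2 ⟨z, hzj, ?_⟩
      show (Z.1.subschemeι ≫ pullback.snd f H.hom) z = H₀.ι (φ.left _)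
      rw [Scheme.Hom.comp_apply, hz, ← Scheme.Hom.comp_apply, h2]
      rfl
    have h3 := ker_comap_comp _ (wMap f j T) hsup
    rw [hφ] at h3
    have h4 : φ ≫ i₀ = g := hu _ (by beta_reduce; rw [hilbPull_eq_comap]; exact h3.symm)
    have h5 : φ.left ≫ H₀.ι = g₀.left ≫ H₀.ι :=
      congrArg (fun e : T ⟶ H => e.left) (h4.trans hg₀.symm)
    exact Over.OverMorphism.ext ((cancel_mono H₀.ι).1 h5)

end Groth.Agent.MS97
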