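import Groth.Agent.MS97.Basic

/-! Morphisms into an open subscheme. -/

set_option autoImplicit false
universe u

noncomputable section

open CategoryTheory CategoryTheory.Limits AlgebraicGeometry Opposite

namespace Groth.Agent.MS97

variable {X Y U S : Scheme.{u}} (gX : X ⟶ S) [IsProper gX] (gY : Y ⟶ S) (j : U ⟶ Y) [IsOpenImmersion j]

/-- the product with X of a test scheme -/
abbrev prodX (T : Over S) : Over S := (Over.map gX).obj ((Over.pullback gX).obj T)

/-- functoriality of the product with X -/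
abbrev prodMap {T T' : Over S} (g : T' ⟶ T) : prodX gX T' ⟶ prodX gX T :=
  (Over.map gX).map ((Over.pullback gX).map g)

omit [IsProper gX] in
theorem range_prodMap {T T' : Over S} (g : T' ⟶ T) :
    Set.range (prodMap gX g).left = pullback.fst T.hom gX ⁻¹' Set.range g.left := by
  have e : (prodMap gX g).left = pullback.map T'.hom gX T.hom gX g.left (𝟙 X) (𝟙 S)
      ((Category.comp_id _).trans (Over.w g).symm) (by rw [Category.comp_id, Category.id_comp]) := by
    refine pullback.hom_ext ?_ ?_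
    · exact (pullback.lift_fst _ _ _).trans (pullback.lift_fst _ _ _).symm
    · exact (pullback.lift_snd _ _ _).trans ((pullback.lift_snd _ _ _).trans (Category.comp_id _)).symm
  rw [e]
  rw [Scheme.Pullback.range_map]
  ext p
  exact ⟨fun h => h.1, fun h => ⟨h, ⟨_, rfl⟩⟩⟩

theorem representableBy_open (M : Over S) (e : (Flatn.morS gX gY).RepresentableBy M) :
    ∃ (M₀ : M.left.Opens)
      (e₀ : (Flatn.morS gX (j ≫ gY)).RepresentableBy (Over.mk (M₀.ι ≫ M.hom))),
      ∀ (T : Over S) (φ : T ⟶ Over.mk (M₀.ι ≫ M.hom)),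
        (e.homEquiv (φ ≫ Over.homMk M₀.ι rfl) :
            (Over.map gX).obj ((Over.pullback gX).obj T) ⟶ Over.mk gY) =
          (e₀.homEquiv φ : (Over.map gX).obj ((Over.pullback gX).obj T) ⟶ Over.mk (j ≫ gY)) ≫
            (Over.homMk j rfl : Over.mk (j ≫ gY) ⟶ Over.mk gY) := by
  let univ : prodX gX M ⟶ Over.mk gY := e.homEquiv (𝟙 M)
  have huniv : ∀ {T : Over S} (g : T ⟶ M), (e.homEquiv g : prodX gX T ⟶ Over.mk gY) = prodMap gX g ≫ univ := by
    intro T g
    have := e.homEquiv_comp g (𝟙 M)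
    rw [Category.comp_id] at this
    exact this
  let pr : pullback M.hom gX ⟶ M.left := pullback.fst M.hom gX
  let B : Set ↥(pullback M.hom gX) := (univ.left ⁻¹' Set.range j)ᶜ
  have hB : IsClosed (pr '' B) :=
    pr.isClosedMap _ (j.isOpenEmbedding.isOpen_range.preimage univ.left.continuous).isClosed_compl
  let M₀ : M.left.Opens := ⟨_, hB.isOpen_compl⟩
  have hiff : ∀ {T : Over S} (g : T ⟶ M), Set.range g.left ⊆ (M₀ : Set M.left) ↔
      Set.range (show prodX gX T ⟶ Over.mk gY from e.homEquiv g).left ⊆ Set.range j := by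
    intro T g
    rw [huniv g]
    show _ ↔ Set.range ((prodMap gX g).left ≫ univ.left) ⊆ _
    constructor
    · intro h
      rintro _ ⟨p, rfl⟩
      by_contra hp
      have h1 : (prodMap gX g).left p ∈ pullback.fst M.hom gX ⁻¹' Set.range g.left := by
        rw [← range_prodMap gX g]; exact ⟨p, rfl⟩
      exact h h1 ⟨_, hp, rfl⟩
    · rintro h _ ⟨s, rfl⟩ ⟨q, hq, hqs⟩
      obtain ⟨p, hp⟩ : q ∈ Set.range (prodMap gX g).left := by
        rw [range_prodMap gX g]; exact ⟨s, hqs.symm⟩
      exact hq (by rw [← hp]; exact h ⟨p, rfl⟩)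
  let i₀ : Over.mk (M₀.ι ≫ M.hom) ⟶ M := Over.homMk M₀.ι rfl
  let jj : Over.mk (j ≫ gY) ⟶ Over.mk gY := Over.homMk j rfl
  have hto : ∀ {T : Over S} (φ : T ⟶ Over.mk (M₀.ι ≫ M.hom)),
      Set.range (show prodX gX T ⟶ Over.mk gY from e.homEquiv (φ ≫ i₀)).left ⊆ Set.range j := fun {T} φ =>
    (hiff _).1 (by
      rintro _ ⟨s, rfl⟩
      exact (φ.left s).2)
  have hinv : ∀ {T : Over S} (c : prodX gX T ⟶ Over.mk (j ≫ gY)),
      Set.range (e.homEquiv.symm (c ≫ jj)).left ⊆ Set.range M₀.ι := fun {T} c => by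
    rw [Scheme.Opens.range_ι]
    refine (hiff _).2 ?_
    rw [Equiv.apply_symm_apply]
    rintro _ ⟨p, rfl⟩
    exact ⟨c.left p, rfl⟩
  let E : ∀ T : Over S, (T ⟶ Over.mk (M₀.ι ≫ M.hom)) ≃ (Flatn.morS gX (j ≫ gY)).obj (op T) := fun T =>
    { toFun := fun φ => Over.homMk (IsOpenImmersion.lift j (show prodX gX T ⟶ Over.mk gY from e.homEquiv (φ ≫ i₀)).left (hto φ))
        (by
          show _ ≫ j ≫ gY = _
          rw [IsOpenImmersion.lift_fac_assoc]
          exact Over.w (show prodX gX T ⟶ Over.mk gY from e.homEquiv (φ ≫ i₀)))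
      invFun := fun c => Over.homMk (IsOpenImmersion.lift M₀.ι (e.homEquiv.symm ((show prodX gX T ⟶ _ from c) ≫ jj)).left (hinv c))
        (by
          show _ ≫ M₀.ι ≫ M.hom = _
          rw [IsOpenImmersion.lift_fac_assoc]
          exact Over.w _)
      left_inv := fun φ => by
        refine Over.OverMorphism.ext ((cancel_mono M₀.ι).1 ?_)
        refine (IsOpenImmersion.lift_fac _ _ _).trans ?_
        show _ = (φ ≫ i₀).left
        refine congrArg (fun g : T ⟶ M => g.left) ?_
        rw [Equiv.symm_apply_eq]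
        exact Over.OverMorphism.ext (IsOpenImmersion.lift_fac _ _ _)
      right_inv := fun c => by
        refine Over.OverMorphism.ext ((cancel_mono j).1 ?_)
        refine (IsOpenImmersion.lift_fac _ _ _).trans ?_
        show _ = ((show prodX gX T ⟶ _ from c) ≫ jj).left
        refine congrArg (fun b : prodX gX T ⟶ Over.mk gY => b.left) ?_
        refine Eq.trans ?_ (e.homEquiv.apply_symm_apply ((show prodX gX T ⟶ _ from c) ≫ jj))
        exact congrArg e.homEquiv (Over.OverMorphism.ext (IsOpenImmersion.lift_fac _ _ _)) }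
  refine ⟨M₀, ⟨fun {T} => E T, fun {T T'} f φ => ?_⟩, fun T φ => ?_⟩
  · refine Over.OverMorphism.ext ((cancel_mono j).1 ?_)
    refine (IsOpenImmersion.lift_fac _ _ _).trans ?_
    rw [Category.assoc, e.homEquiv_comp]
    show (prodMap gX f ≫ (show prodX gX T' ⟶ Over.mk gY from e.homEquiv (φ ≫ i₀))).left = _
    show _ = ((prodMap gX f).left ≫ IsOpenImmersion.lift j _ (hto φ)) ≫ j
    rw [Category.assoc, IsOpenImmersion.lift_fac]
    rfl
  · refine Over.OverMorphism.ext ?_
    exact (IsOpenImmersion.lift_fac _ _ _).symm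

end Groth.Agent.MS97
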